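import Cfsg.Agent.H447.CTabLam
import Cfsg.Agent.H424.DegTools
import Cfsg.Agent.S0886

/-!
# Degrees from the classes under all automorphisms (helper344, S4908)

`ATab G k` : a labelling `cl : G → Fin k` which is invariant under all automorphisms of `G`, with the sizes of its fibres;
`GV T v` : the function `g ↦ v (cl g)` is a generalized character; closed under `+, -, *`, the second and third lambda
operation; `GV.irr` : norm one; `degree` : if `k` orthogonal functions of this form are known, the first ones of norm `1`,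
the last four of the norms `2, 2, 2, 4`, then the degree of a further irreducible character is one of a short list;
`mem_aut` : the characters of norm one extend to `Aut G` if `|Out G| = 2`.
-/

set_option autoImplicit false

namespace Cfsg.Agent.H344.S8

open Cfsg Cfsg.Agent.Characters.Core Cfsg.Agent.Characters.Brauer Cfsg.Agent.H447.CTab
open scoped ComplexConjugate

universe u v

/-- an automorphism invariant labelling -/
structure ATab (G : Type u) [Group G] [Finite G] (k : ℕ) where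
  cl : G → Fin k
  sz : Fin k → ℕ
  hsz : ∀ i, Nat.card {g : G // cl g = i} = sz i
  hinv : ∀ (σ : MulAut G) (g : G), cl (σ g) = cl g

variable {G : Type u} [Group G] [Finite G] {k : ℕ} (T : ATab G k)

/-- the function of a table -/
def fv (v : Fin k → ℤ) : G → ℂ := fun g => ((v (T.cl g) : ℤ) : ℂ)

/-- it is a generalized character -/
def GV (v : Fin k → ℤ) : Prop := IsGeneralizedCharacter G (fv T v)

variable {T}

theorem GV.congr {v w : Fin k → ℤ} (h : GV T v) (hvw : ∀ j, v j = w j) : GV T w := by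
  have : v = w := funext hvw
  rwa [← this]

theorem GV.one : GV T fun _ => 1 := by
  have h : fv T (fun _ => 1) = 1 := by
    funext g
    simp [fv]
  unfold GV
  rw [h]
  exact isGeneralizedCharacter_of_isCharacter isCharacter_one

theorem GV.zero : GV T fun _ => 0 := by
  have h : fv T (fun _ => 0) = 0 := by
    funext g
    simp [fv]
  unfold GV
  rw [h]
  exact isGeneralizedCharacter_zero

theorem GV.add {v w : Fin k → ℤ} (hv : GV T v) (hw : GV T w) : GV T fun j => v j + w j := by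
  have h : fv T (fun j => v j + w j) = fv T v + fv T w := by
    funext g
    simp [fv]
  unfold GV
  rw [h]
  exact isGeneralizedCharacter_add hv hw

theorem GV.neg {v : Fin k → ℤ} (hv : GV T v) : GV T fun j => - v j := by
  have h : fv T (fun j => - v j) = - fv T v := by
    funext g
    simp [fv]
  unfold GV
  rw [h]
  exact isGeneralizedCharacter_neg hv

theorem GV.mul {v w : Fin k → ℤ} (hv : GV T v) (hw : GV T w) : GV T fun j => v j * w j := by
  have h : fv T (fun j => v j * w j) = fv T v * fv T w := by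
    funext g
    simp [fv]
  unfold GV
  rw [h]
  exact isGeneralizedCharacter_mul hv hw

theorem GV.nsmul {v : Fin k → ℤ} (hv : GV T v) (n : ℕ) : GV T fun j => n * v j := by
  induction n with
  | zero => exact GV.zero.congr fun j => by simp
  | succ n ih => exact (ih.add hv).congr fun j => by push_cast; ring

theorem GV.zsmul {v : Fin k → ℤ} (hv : GV T v) (n : ℤ) : GV T fun j => n * v j := by
  obtain ⟨m, rfl | rfl⟩ := n.eq_nat_or_neg
  · exact hv.nsmul m
  · exact (hv.nsmul m).neg.congr fun j => by ring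

/-- an integral combination -/
theorem GV.sum {ι : Type*} (s : Finset ι) {v : ι → Fin k → ℤ} (h : ∀ i ∈ s, GV T (v i)) (n : ι → ℤ) :
    GV T fun j => ∑ i ∈ s, n i * v i j := by
  classical
  induction s using Finset.induction_on with
  | empty => exact GV.zero.congr fun j => by simp
  | insert a s ha ih =>
    refine (((h a (Finset.mem_insert_self _ _)).zsmul (n a)).add
      (ih fun i hi => h i (Finset.mem_insert_of_mem hi))).congr fun j => ?_
    rw [Finset.sum_insert ha]

/-- the exterior square -/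
theorem GV.lam2 {v w : Fin k → ℤ} (hv : GV T v) (pw : Fin k → Fin k) (hpw : ∀ g : G, T.cl (g ^ 2) = pw (T.cl g))
    (h : ∀ j, 2 * w j = v j * v j - v (pw j)) : GV T w := by
  have h1 := gen_ext_two hv
  have h2 : fv T w = fun g => (fv T v g * fv T v g - fv T v (g ^ 2)) / 2 := by
    funext g
    have h3 := congrArg (fun z : ℤ => (z : ℂ)) (h (T.cl g))
    push_cast at h3
    rw [eq_div_iff (by norm_num : (2 : ℂ) ≠ 0)]
    simp only [fv]
    rw [hpw g]
    linear_combination h3
  unfold GV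
  rw [h2]
  exact h1

/-- the exterior cube -/
theorem GV.lam3 {v w : Fin k → ℤ} (hv : GV T v) (pw pw' : Fin k → Fin k) (hpw : ∀ g : G, T.cl (g ^ 2) = pw (T.cl g))
    (hpw' : ∀ g : G, T.cl (g ^ 3) = pw' (T.cl g))
    (h : ∀ j, 6 * w j = v j * v j * v j - 3 * (v j * v (pw j)) + 2 * v (pw' j)) : GV T w := by
  have h1 := gen_ext_three hv
  have h2 : fv T w = fun g => (fv T v g * fv T v g * fv T v g - 3 * (fv T v g * fv T v (g ^ 2)) +
      2 * fv T v (g ^ 3)) / 6 := by
    funext g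
    have h3 := congrArg (fun z : ℤ => (z : ℂ)) (h (T.cl g))
    push_cast at h3
    rw [eq_div_iff (by norm_num : (6 : ℂ) ≠ 0)]
    simp only [fv]
    rw [hpw g, hpw' g]
    linear_combination h3
  unfold GV
  rw [h2]
  exact h1

/-! ### sums -/

/-- sums over the group -/
theorem ATab.sum_eq [Fintype G] (f : Fin k → ℂ) : ∑ g : G, f (T.cl g) = ∑ i, (T.sz i : ℂ) * f i := by
  classical
  rw [← Finset.sum_fiberwise_of_maps_to (s := Finset.univ) (t := Finset.univ) (g := T.cl) (fun _ _ => Finset.mem_univ _)]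
  refine Finset.sum_congr rfl fun i _ => ?_
  rw [Finset.sum_congr rfl (g := fun _ => f i) fun g hg => by rw [(Finset.mem_filter.1 hg).2], Finset.sum_const,
    nsmul_eq_mul]
  congr 2
  rw [← T.hsz i, Nat.card_eq_fintype_card, Fintype.card_subtype]

theorem inner_fv [Fintype G] (v w : Fin k → ℤ) :
    (Nat.card G : ℂ) * classInner (fv T v) (fv T w) = ((∑ i, (T.sz i : ℤ) * (v i * w i) : ℤ) : ℂ) := by
  rw [classInner_def, ← mul_assoc, mul_inv_cancel₀ card_ne_zero_complex, one_mul]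
  have h := T.sum_eq (fun i => ((v i : ℤ) : ℂ) * conj ((w i : ℤ) : ℂ))
  refine h.trans ?_
  push_cast
  refine Finset.sum_congr rfl fun i _ => ?_
  rw [show conj ((w i : ℤ) : ℂ) = ((w i : ℤ) : ℂ) from map_intCast _ _]

theorem inner_eq [Fintype G] {N : ℕ} (hN : Nat.card G = N) {v w : Fin k → ℤ} {n : ℤ}
    (h : ∑ i, (T.sz i : ℤ) * (v i * w i) = N * n) : classInner (fv T v) (fv T w) = n := by
  have h1 := inner_fv (T := T) v w
  rw [h] at h1
  have h2 : (Nat.card G : ℂ) ≠ 0 := card_ne_zero_complex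
  apply mul_left_cancel₀ h2
  rw [h1, hN]
  push_cast
  rfl

/-- norm one and a positive degree -/
theorem GV.irr {v : Fin k → ℤ} (hv : GV T v) {N : ℕ} (hN : Nat.card G = N) (h : ∑ i, (T.sz i : ℤ) * (v i * v i) = N)
    (hpos : 0 < v (T.cl 1)) : IsIrrCharacter G (fv T v) := by
  have := Fintype.ofFinite G
  have h1 : classInner (fv T v) (fv T v) = 1 := by
    have := inner_eq (T := T) hN (v := v) (w := v) (n := 1) (by rw [h, mul_one])
    rw [this]
    norm_num
  rcases isIrr_of_generalized hv h1 with h3 | h3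
  · exact h3
  · obtain ⟨n, hn, h4⟩ := isIrr_apply_one h3
    exfalso
    rw [Pi.neg_apply] at h4
    have h5 : -((v (T.cl 1) : ℤ) : ℂ) = n := h4
    have h6 : - v (T.cl 1) = (n : ℤ) := by exact_mod_cast h5
    omega

/-! ### the other characters -/

/-- **Degrees of the other irreducible characters.** -/
theorem degree {N : ℕ} (hN : Nat.card G = N) {m : ℕ} (v : Fin m → Fin k → ℤ) (w : Fin 4 → Fin k → ℤ)
    (hv : ∀ i, IsIrrCharacter G (fv T (v i))) (hw : ∀ i, GV T (w i))
    (hww : ∀ i j, ∑ c, (T.sz c : ℤ) * (w i c * w j c) = N * if i = j then ![2, 2, 2, 4] i else 0)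
    (c0 : Fin k) (hc0 : T.cl 1 = c0) (hs0 : T.sz c0 = 1)
    (hcol : ∀ c, (∑ i, 4 * v i c0 * v i c) + (∑ j, ![2, 2, 2, 1] j * w j c0 * w j c) = if c = c0 then 4 * (N : ℤ) else 0)
    (χ : IrrCharacter G) (hχ : ∀ i, fv T (v i) ≠ (χ : G → ℂ)) :
    ∃ a : Fin 4 → ℤ, 2 * (a 0 ^ 2 + a 1 ^ 2 + a 2 ^ 2) + a 3 ^ 2 ≤ 4 ∧
      4 * (charDegree (χ : G → ℂ) : ℤ) = ∑ j, ![2, 2, 2, 1] j * a j * w j c0 := by
  classical
  have := Fintype.ofFinite G
  have := finite_irr (G := G)
  have := Fintype.ofFinite (IrrCharacter G)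
  let μ : Fin 4 → IrrCharacter G → ℤ := fun j => mu (hw j)
  have hμ : ∀ i j, ∑ η, μ i η * μ j η = if i = j then ![2, 2, 2, 4] i else 0 := by
    intro i j
    have h1 := inner_sum_mu (hw i) (hw j)
    rw [inner_eq (T := T) hN (hww i j)] at h1
    exact_mod_cast h1.symm
  refine ⟨fun j => μ j χ, ?_, ?_⟩
  · -- Bessel
    let d : IrrCharacter G → ℤ := fun η => if η = χ then 1 else 0
    have hd1 : ∑ η, d η * d η = 1 := by
      simp only [d, mul_ite, mul_one, mul_zero, Finset.sum_ite_eq', Finset.mem_univ, if_true]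
    have hdm : ∀ j, ∑ η, d η * μ j η = μ j χ := by
      intro j
      simp only [d, ite_mul, one_mul, zero_mul, Finset.sum_ite_eq', Finset.mem_univ, if_true]
    have h0 : 0 ≤ ∑ η, (4 * d η - 2 * μ 0 χ * μ 0 η - 2 * μ 1 χ * μ 1 η - 2 * μ 2 χ * μ 2 η - μ 3 χ * μ 3 η) ^ 2 :=
      Finset.sum_nonneg fun η _ => sq_nonneg _
    have h1 : ∑ η, (4 * d η - 2 * μ 0 χ * μ 0 η - 2 * μ 1 χ * μ 1 η - 2 * μ 2 χ * μ 2 η - μ 3 χ * μ 3 η) ^ 2 =
        16 * (∑ η, d η * d η) + 4 * μ 0 χ ^ 2 * (∑ η, μ 0 η * μ 0 η) + 4 * μ 1 χ ^ 2 * (∑ η, μ 1 η * μ 1 η) +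
        4 * μ 2 χ ^ 2 * (∑ η, μ 2 η * μ 2 η) + μ 3 χ ^ 2 * (∑ η, μ 3 η * μ 3 η) -
        16 * μ 0 χ * (∑ η, d η * μ 0 η) - 16 * μ 1 χ * (∑ η, d η * μ 1 η) - 16 * μ 2 χ * (∑ η, d η * μ 2 η) -
        8 * μ 3 χ * (∑ η, d η * μ 3 η) + 8 * μ 0 χ * μ 1 χ * (∑ η, μ 0 η * μ 1 η) +
        8 * μ 0 χ * μ 2 χ * (∑ η, μ 0 η * μ 2 η) + 4 * μ 0 χ * μ 3 χ * (∑ η, μ 0 η * μ 3 η) +
        8 * μ 1 χ * μ 2 χ * (∑ η, μ 1 η * μ 2 η) + 4 * μ 1 χ * μ 3 χ * (∑ η, μ 1 η * μ 3 η) +
        4 * μ 2 χ * μ 3 χ * (∑ η, μ 2 η * μ 3 η) := by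
      simp only [Finset.mul_sum, ← Finset.sum_add_distrib, ← Finset.sum_sub_distrib]
      refine Finset.sum_congr rfl fun η _ => ?_
      ring
    rw [h1, hd1, hdm, hdm, hdm, hdm, hμ, hμ, hμ, hμ, hμ, hμ, hμ, hμ, hμ, hμ] at h0
    simp at h0
    show 2 * (μ 0 χ ^ 2 + μ 1 χ ^ 2 + μ 2 χ ^ 2) + μ 3 χ ^ 2 ≤ 4
    nlinarith [h0]
  · -- the degree
    have hA : ∀ i, ∑ g : G, (χ : G → ℂ) g * ((v i (T.cl g) : ℤ) : ℂ) = 0 := by
      intro i
      have h1 : classInner (χ : G → ℂ) (fv T (v i)) = 0 := by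
        exact classInner_irr_ne χ.2 (hv i) fun h2 => hχ i h2.symm
      rw [classInner_def] at h1
      have h2 : (Nat.card G : ℂ)⁻¹ ≠ 0 := inv_ne_zero card_ne_zero_complex
      have h3 := (mul_eq_zero.1 h1).resolve_left h2
      rw [← h3]
      refine Finset.sum_congr rfl fun g _ => ?_
      rw [fv, show conj ((v i (T.cl g) : ℤ) : ℂ) = ((v i (T.cl g) : ℤ) : ℂ) from map_intCast _ _]
    have hB : ∀ j, ∑ g : G, (χ : G → ℂ) g * ((w j (T.cl g) : ℤ) : ℂ) = (Nat.card G : ℂ) * ((μ j χ : ℤ) : ℂ) := by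
      intro j
      have h1 := inner_mu (hw j) χ
      have h2 : classInner (χ : G → ℂ) (fv T (w j)) = ((μ j χ : ℤ) : ℂ) := by
        have h3 : classInner (χ : G → ℂ) (fv T (w j)) = conj (classInner (fv T (w j)) (χ : G → ℂ)) := by
          rw [classInner_def, classInner_def, map_mul, map_inv₀, Complex.conj_natCast, map_sum]
          congr 1
          refine Finset.sum_congr rfl fun g _ => ?_
          rw [map_mul, Complex.conj_conj]
          ring
        rw [h3, h1, map_intCast]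
      rw [classInner_def] at h2
      have h3 : (Nat.card G : ℂ) ≠ 0 := card_ne_zero_complex
      rw [← h2, mul_inv_cancel_left₀ h3]
      refine Finset.sum_congr rfl fun g _ => ?_
      rw [fv, show conj ((w j (T.cl g) : ℤ) : ℂ) = ((w j (T.cl g) : ℤ) : ℂ) from map_intCast _ _]
    have hfib : ∀ g : G, T.cl g = c0 → g = 1 := by
      intro g hg
      have h1 := T.hsz c0
      rw [hs0, Nat.card_eq_one_iff_unique] at h1
      have h2 : (⟨g, hg⟩ : {g : G // T.cl g = c0}) = ⟨1, hc0⟩ := h1.1.elim _ _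
      exact congrArg Subtype.val h2
    -- the column sum
    have hC : ∑ g : G, (χ : G → ℂ) g * (((∑ i, 4 * v i c0 * v i (T.cl g)) +
        (∑ j, ![2, 2, 2, 1] j * w j c0 * w j (T.cl g)) : ℤ) : ℂ) = (χ : G → ℂ) 1 * (4 * N : ℤ) := by
      rw [Finset.sum_eq_single 1]
      · rw [hcol, hc0, if_pos rfl]
      · intro g _ hg
        rw [hcol, if_neg (fun h => hg (hfib g h))]
        simp
      · intro h
        exact absurd (Finset.mem_univ _) h
    have hD : ∑ g : G, (χ : G → ℂ) g * (((∑ i, 4 * v i c0 * v i (T.cl g)) +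
        (∑ j, ![2, 2, 2, 1] j * w j c0 * w j (T.cl g)) : ℤ) : ℂ) =
        (∑ i, ((4 * v i c0 : ℤ) : ℂ) * ∑ g : G, (χ : G → ℂ) g * ((v i (T.cl g) : ℤ) : ℂ)) +
        ∑ j, ((![2, 2, 2, 1] j * w j c0 : ℤ) : ℂ) * ∑ g : G, (χ : G → ℂ) g * ((w j (T.cl g) : ℤ) : ℂ) := by
      simp only [Finset.mul_sum]
      rw [Finset.sum_comm, Finset.sum_comm (s := (Finset.univ : Finset (Fin 4))), ← Finset.sum_add_distrib]
      refine Finset.sum_congr rfl fun g _ => ?_
      rw [Int.cast_add, Int.cast_sum, Int.cast_sum, mul_add, Finset.mul_sum, Finset.mul_sum]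
      congr 1
      · refine Finset.sum_congr rfl fun i _ => ?_
        rw [Int.cast_mul]
        ring
      · refine Finset.sum_congr rfl fun i _ => ?_
        rw [Int.cast_mul]
        ring
    rw [hC] at hD
    have hE : (χ : G → ℂ) 1 * (4 * N : ℤ) =
        ∑ j, ((![2, 2, 2, 1] j * w j c0 : ℤ) : ℂ) * ((Nat.card G : ℂ) * ((μ j χ : ℤ) : ℂ)) := by
      rw [hD]
      simp only [hA, hB, mul_zero, Finset.sum_const_zero, zero_add]
    have hχ1 := Cfsg.Agent.Blocks.Basic.irr_one_eq_charDegree χ.2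
    rw [hχ1, hN] at hE
    have hN0 : (N : ℤ) ≠ 0 := by
      rw [← hN]
      exact_mod_cast (Nat.card_pos (α := G)).ne'
    have hF : (charDegree (χ : G → ℂ) : ℤ) * (4 * N) = ∑ j, (![2, 2, 2, 1] j * w j c0) * ((N : ℤ) * μ j χ) := by
      exact_mod_cast hE
    apply mul_right_cancel₀ hN0
    rw [Finset.sum_mul]
    calc 4 * (charDegree (χ : G → ℂ) : ℤ) * N = (charDegree (χ : G → ℂ) : ℤ) * (4 * N) := by ring
      _ = _ := hF
      _ = _ := Finset.sum_congr rfl fun j _ => by ring

/-! ### automorphisms -/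

/-- an invariant character extends if `|Out X| = 2` -/
theorem mem_aut (hc : Subgroup.center G = ⊥) (h2 : (MulAut.conj : G →* MulAut G).range.index = 2) {v : Fin k → ℤ}
    (hχ : IsIrrCharacter G (fv T v)) {d : ℕ} (hd : v (T.cl 1) = d) : d ∈ charDegrees (MulAut G) := by
  have : Finite (MulAut G) := inferInstance
  have hn : (MulAut.conj : G →* MulAut G).range.Normal := by
    constructor
    rintro _ ⟨x, rfl⟩ g
    exact ⟨g x, by ext y; simp [MulAut.conj_apply]⟩
  have hinj : Function.Injective (MulAut.conj : G →* MulAut G) := by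
    rw [injective_iff_map_eq_one]
    intro a ha
    rw [← Subgroup.mem_bot, ← hc, Subgroup.mem_center_iff]
    intro y
    have h1 : MulAut.conj a y = y := by rw [ha]; rfl
    rw [MulAut.conj_apply, mul_inv_eq_iff_eq_mul] at h1
    exact h1.symm
  let E : G ≃* (MulAut.conj : G →* MulAut G).range := MonoidHom.ofInjective hinj
  have hcyc : IsCyclic (MulAut G ⧸ (MulAut.conj : G →* MulAut G).range) := by
    have : Fact (Nat.Prime 2) := ⟨Nat.prime_two⟩
    exact isCyclic_of_prime_card (p := 2) h2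
  have hirr : IsIrrCharacter (MulAut.conj : G →* MulAut G).range (fv T v ∘ E.symm) :=
    isIrr_comp E.symm.toMonoidHom E.symm.surjective hχ
  obtain ⟨ψ, hψ, hr⟩ := S0886.result _ hcyc (fv T v ∘ E.symm) hirr (by
    intro g n
    obtain ⟨x, rfl⟩ := E.surjective n
    have h5 : E.symm ⟨g * (E x : MulAut G) * g⁻¹, hn.conj_mem _ (E x).2 g⟩ = g x := by
      apply E.injective
      rw [E.apply_symm_apply]
      apply Subtype.ext
      show g * MulAut.conj x * g⁻¹ = MulAut.conj (g x)
      ext y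
      simp [MulAut.conj_apply]
    rw [Function.comp_apply, h5, Function.comp_apply, E.symm_apply_apply]
    show ((v (T.cl (g x)) : ℤ) : ℂ) = ((v (T.cl x) : ℤ) : ℂ)
    rw [T.hinv g x])
  refine Cfsg.Agent.H424.DegTools.mem_charDegrees.2 ⟨ψ, hψ, ?_⟩
  have h6 := hr 1
  rw [show (((1 : (MulAut.conj : G →* MulAut G).range)) : MulAut G) = 1 from rfl] at h6
  rw [h6, Function.comp_apply, map_one]
  show ((v (T.cl 1) : ℤ) : ℂ) = d
  rw [hd]
  push_cast
  rfl

end Cfsg.Agent.H344.S8
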