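import Cfsg.Agent.H344.S8.HSDeg
import Cfsg.Agent.H786.S8.Solv
import Cfsg.Agent.H704.S8.Defs

/-!
# S4908, SOLV for the Higman-Sims group (helper344)

* `charDegrees_sub` : the degrees of `HS` and of `Aut HS` are in the list `1 :: C.map (·.1)`;
* `known` : the numbers of the list `LV` are degrees of `HS` and of `Aut HS`;
* `solv` : no solvable group has the degrees of `HS` or of `Aut HS`.
-/

set_option autoImplicit false
set_option maxRecDepth 100000

namespace Cfsg.Agent.H344.S8.HS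

open Cfsg Equiv Cfsg.Agent.HN.HS100 Cfsg.Agent.H424.DegTools

universe u v

/-- a superset of the degrees with witnesses -/
def C : List (ℕ × List ℕ) :=
  [(22, [231, 825]), (77, [825, 1056]), (126, [770]), (154, [231]), (175, [231]), (231, [22]), (252, [22]), (308,
  [693]), (616, [693]), (693, [175]), (770, [231]), (825, [22]), (896, [22]), (924, [175]), (1050, [22]), (1056,
  [77]), (1232, [175]), (1260, [22]), (1386, [175]), (1408, [77]), (1540, [175]), (1750, [22]), (1792, [22]), (1848,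
  [175]), (1925, [231]), (2100, [22]), (2520, [22]), (2750, [77]), (3200, [22]), (3850, [231]), (5040, [22])]

def Wt : List ℕ := [22, 77, 175, 231, 693, 770, 825, 1056]

def P : List ℕ := [2, 3, 5, 7, 11]

theorem chk : H245.AN.chkB (1 :: C.map (·.1)) P Wt C = true := by decide +kernel

theorem sub1 : ∀ d ∈ 1 :: (LV ++ LX), d ∈ 1 :: C.map (·.1) := by decide +kernel

theorem sub2 : ∀ d ∈ 1925 :: LX, 2 * d ∈ 1 :: C.map (·.1) := by decide +kernel

theorem Wt_sub : ∀ w ∈ Wt, w ∈ LV := by decide +kernel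

theorem C_dvd : ∀ d ∈ 1 :: C.map (·.1), d ∣ 88704000 := by decide +kernel

variable {X : Type v} [Group X]

theorem finite_of (h : Spor.IsoHS X) : Finite X := by
  obtain ⟨e⟩ := h
  obtain ⟨f⟩ := isoQ
  exact Finite.of_equiv _ (f.trans e.symm).toEquiv

variable [Finite X]

omit [Finite X] in
theorem equivQ (h : Spor.IsoHS X) : Nonempty (X ≃* Q) := by
  obtain ⟨e⟩ := h
  obtain ⟨f⟩ := isoQ
  exact ⟨e.trans f.symm⟩

/-- **The known degrees.** -/
theorem known (h : Spor.IsoHS X) {D : Set ℕ} (hD : H704.S8.Deg 2 X D) : ∀ n ∈ LV, n ∈ D := by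
  intro n hn
  obtain ⟨e⟩ := equivQ h
  rcases hD with rfl | ⟨-, rfl⟩
  · rw [charDegrees_congr e]
    exact mem_Q n hn
  · rw [charDegrees_congr (MulAut.congr e)]
    exact mem_aut_Q n hn

/-- **A superset of the degrees of `HS`.** -/
theorem deg_sub (h : Spor.IsoHS X) {d : ℕ} (hd : d ∈ charDegrees X) : d ∈ 1 :: (LV ++ LX) := by
  obtain ⟨e⟩ := equivQ h
  rw [charDegrees_congr e] at hd
  exact deg_Q hd

/-- **A superset of the degrees of `Aut HS`.** -/
theorem deg_aut_sub (h : Spor.IsoHS X) {d : ℕ} (hd : d ∈ charDegrees (MulAut X)) :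
    d ∈ 1 :: (LV ++ LX) ∨ ∃ f ∈ 1925 :: LX, d = 2 * f := by
  obtain ⟨e⟩ := equivQ h
  rw [charDegrees_congr (MulAut.congr e)] at hd
  exact deg_aut_Q hd

/-- **A superset of both sets of degrees.** -/
theorem charDegrees_sub (h : Spor.IsoHS X) {D : Set ℕ} (hD : H704.S8.Deg 2 X D) : ∀ d ∈ D, d ∈ 1 :: C.map (·.1) := by
  intro d hd
  rcases hD with rfl | ⟨-, rfl⟩
  · exact sub1 d (deg_sub h hd)
  · rcases deg_aut_sub h hd with h1 | ⟨f, hf, rfl⟩
    · exact sub1 d h1
    · exact sub2 f hf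

theorem primes (h : Spor.IsoHS X) {D : Set ℕ} (hD : H704.S8.Deg 2 X D) :
    ∀ p : ℕ, p.Prime → ∀ d ∈ D, p ∣ d → p ∈ P := by
  intro p hp d hd hpd
  have h1 : p ∣ 88704000 := hpd.trans (C_dvd d (charDegrees_sub h hD d hd))
  have h2 : (88704000 : ℕ) = 2 ^ 10 * 3 ^ 2 * 5 ^ 3 * 7 * 11 := by norm_num
  rw [h2] at h1
  simp only [hp.dvd_mul] at h1
  have hq : ∀ {q n : ℕ}, q.Prime → p ∣ q ^ n → p = q := fun hq h =>
    (Nat.prime_dvd_prime_iff_eq hp hq).1 (hp.dvd_of_dvd_pow h)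
  have hq' : ∀ {q : ℕ}, q.Prime → p ∣ q → p = q := fun hq h => (Nat.prime_dvd_prime_iff_eq hp hq).1 h
  rcases h1 with (((h1 | h1) | h1) | h1) | h1
  · rw [hq (by norm_num) h1]; decide
  · rw [hq (by norm_num) h1]; decide
  · rw [hq (by norm_num) h1]; decide
  · rw [hq' (by norm_num) h1]; decide
  · rw [hq' (by norm_num) h1]; decide

/-- **SOLV for `HS`.** -/
theorem solv (h : Spor.IsoHS X) {D : Set ℕ} (hD : H704.S8.Deg 2 X D) : H704.S8.Solv.{u} D :=
  H786.S8.solv_of_list chk (charDegrees_sub h hD) (fun w hw => known h hD w (Wt_sub w hw)) (primes h hD)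
    (known h hD 22 (by decide)) (by norm_num)

end Cfsg.Agent.H344.S8.HS
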