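import Cfsg.Agent.H344.S8.ATab
import Cfsg.Agent.H922.Ore.HSFinal
import Cfsg.Agent.H348.Pw.GraphCl
import Cfsg.Agent.HN.SrgHS

/-!
# The labelling of `HS` by the classes under all automorphisms, and the characters of degree 22 and 77 (helper344)
-/

set_option autoImplicit false
set_option maxRecDepth 100000

namespace Cfsg.Agent.H344.S8.HS

open Cfsg Equiv Cfsg.Agent.HN.HS100 Cfsg.Agent.HN.Pres Cfsg.Agent.SporadicA.PermTab
open Cfsg.Agent.H922.Ore.Gr Cfsg.Agent.H922.Ore.HS Cfsg.Agent.H348.Pw.Gr Cfsg.Agent.HN.SrgHS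
open Cfsg.Agent.H447.CTab

/-- the sizes of the classes under all automorphisms -/
def szL : List ℕ := [1, 15400, 5775, 123200, 11550, 693000, 173250, 147840, 88704, 1774080, 1232000, 1848000, 6336000, 5544000, 2772000, 2217600, 2217600, 8064000, 3696000, 2956800, 4435200]

/-- squares -/
def pw2L : List ℕ := [0, 0, 0, 3, 2, 2, 2, 7, 8, 9, 3, 3, 12, 5, 6, 8, 7, 17, 11, 19, 15]

/-- cubes -/
def pw3L : List ℕ := [0, 1, 2, 0, 4, 5, 6, 7, 8, 9, 1, 2, 12, 13, 14, 15, 16, 17, 4, 7, 20]

/-- the sizes -/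
def sz (i : Fin 21) : ℕ := szL.getD i 0

/-- the classes of the squares -/
def pw2 (i : Fin 21) : Fin 21 := Fin.ofNat 21 (pw2L.getD i 0)

/-- the classes of the cubes -/
def pw3 (i : Fin 21) : Fin 21 := Fin.ofNat 21 (pw3L.getD i 0)

/-- the invariants -/
def Iv (i : Fin 21) : List ℕ := (D i).I

theorem Iv_inj : ∀ i j : Fin 21, Iv i = Iv j → i = j := by decide +kernel

theorem inv_of (i : Fin 21) {x : Perm (Fin 100)} (hx : Acts x [(D i).X]) : inv4v adjA x = Iv i := by
  have h := chk_all i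
  simp only [Cls.chk, Bool.and_eq_true] at h
  obtain ⟨-, -, h4⟩ := h
  unfold Iv
  split at h4
  · next v2 v1 w2 w1 he =>
    rw [he]
    exact inv4v_of hx h4
  · exact absurd h4 (by simp)

theorem cov_Q : ∀ g ∈ Q, ∃ i, ∃ x ∈ Q, Acts x [(D i).X] ∧ ∃ c ∈ φ.range, g = c * x * c⁻¹ := by
  refine cls_all (R := φ.range) (A := adjA) Q_le_range range_le norm_Q D chk_all mem_all ?_ ?_
  · intro i j
    revert i j
    decide +kernel
  · rw [card_range, card_Q_eq]
    decide +kernel

theorem inv_conj {g h c : Perm (Fin 100)} (hc : c ∈ autG 100 adjA) (e : g = c * h * c⁻¹) :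
    inv4v adjA g = inv4v adjA h := by
  refine (inv4v_conj hc (g := h) (h := g) ?_).symm
  rw [e]
  group

theorem exists_inv (g : Q) : ∃ i, inv4v adjA (g : Perm (Fin 100)) = Iv i := by
  obtain ⟨i, x, -, hx, c, hc, he⟩ := cov_Q g g.2
  exact ⟨i, (inv_conj (range_le hc) he).trans (inv_of i hx)⟩

/-- the label -/
noncomputable def cl (g : Q) : Fin 21 := (exists_inv g).choose

theorem cl_spec (g : Q) : inv4v adjA (g : Perm (Fin 100)) = Iv (cl g) := (exists_inv g).choose_spec

theorem cl_eq {g : Q} {i : Fin 21} (h : inv4v adjA (g : Perm (Fin 100)) = Iv i) : cl g = i :=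
  Iv_inj _ _ ((cl_spec g).symm.trans h)

theorem exists_x : ∀ i : Fin 21, ∃ x ∈ Q, Acts x [(D i).X] := by
  intro i
  have h := chk_all i
  simp only [Cls.chk, Bool.and_eq_true] at h
  obtain ⟨x, hx, hA, -⟩ := Wit.ok (D i).toWit h.1 (mem_all i)
  exact ⟨x, hx, hA⟩

instance : Finite Q := Cfsg.Agent.HN.AutHS.finite_Q

theorem card_cent_le {i : Fin 21} {x : φ.range} (hx : Acts (x : Perm (Fin 100)) [(D i).X]) :
    Nat.card ↥(Subgroup.centralizer ({x} : Set φ.range)) ≤ bnd (D i).L := by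
  have h := chk_all i
  simp only [Cls.chk, Bool.and_eq_true] at h
  have e : Nat.card ↥(Subgroup.centralizer ({x} : Set φ.range)) =
      Nat.card ↥((Subgroup.centralizer ({x} : Set φ.range)).map φ.range.subtype) :=
    Nat.card_congr (Subgroup.equivMapOfInjective _ _ φ.range.subtype_injective).toEquiv
  rw [e]
  refine card_le_of_chC hx (D i).m (D i).k (D i).L _ [] ?_ ?_ ?_ h.2.1
  · rintro _ ⟨c, -, rfl⟩
    exact range_le c.2
  · rintro _ ⟨c, hc, rfl⟩ j
    have hc' := Subgroup.mem_centralizer_singleton_iff.1 hc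
    exact congrArg (fun z : φ.range => (z : Perm (Fin 100)) j) hc'
  · intro c _ f hf
    exact absurd hf List.not_mem_nil

theorem fib_ge (i : Fin 21) : Nat.card φ.range / bnd (D i).L ≤ Nat.card {g : Q // cl g = i} := by
  obtain ⟨x, hxQ, hx⟩ := exists_x i
  have h1 := card_class (G := φ.range) (⟨x, Q_le_range hxQ⟩ : φ.range)
  have h2 := card_cent_le (i := i) (x := ⟨x, Q_le_range hxQ⟩) hx
  have h3 : Nat.card φ.range / bnd (D i).L ≤ Nat.card {y : φ.range // IsConj (⟨x, Q_le_range hxQ⟩ : φ.range) y} := by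
    apply Nat.div_le_of_le_mul
    rw [← h1, mul_comm (bnd _)]
    exact Nat.mul_le_mul_left _ h2
  refine h3.trans ?_
  have key : ∀ y : φ.range, IsConj (⟨x, Q_le_range hxQ⟩ : φ.range) y → ∃ hy : (y : Perm (Fin 100)) ∈ Q,
      cl ⟨y, hy⟩ = i := by
    intro y hy
    obtain ⟨c, hc⟩ := isConj_iff.1 hy
    have e : (y : Perm (Fin 100)) = c * x * (c : Perm (Fin 100))⁻¹ := (congrArg Subtype.val hc).symm
    have hyQ : (y : Perm (Fin 100)) ∈ Q := by
      rw [e]
      exact norm_Q c c.2 x hxQ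
    exact ⟨hyQ, cl_eq ((inv_conj (range_le c.2) e).trans (inv_of i hx))⟩
  refine Nat.card_le_card_of_injective
    (fun y : {y : φ.range // IsConj (⟨x, Q_le_range hxQ⟩ : φ.range) y} =>
      (⟨⟨y.1, (key y.1 y.2).1⟩, (key y.1 y.2).2⟩ : {g : Q // cl g = i})) ?_
  intro y z hyz
  apply Subtype.ext
  apply Subtype.ext
  exact congrArg (fun t : {g : Q // cl g = i} => ((t : Q) : Perm (Fin 100))) hyz

theorem sz_chk : ∀ i : Fin 21, 88704000 / bnd (D i).L = sz i := by decide +kernel

theorem sz_sum : ∑ i : Fin 21, sz i = 44352000 := by decide +kernel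

theorem card_R : Nat.card φ.range = 88704000 := by
  rw [card_range, card_Q_eq]

theorem card_fib (i : Fin 21) : Nat.card {g : Q // cl g = i} = sz i := by
  have h1 : ∀ i ∈ Finset.univ, sz i ≤ Nat.card {g : Q // cl g = i} := by
    intro i _
    rw [← sz_chk i, ← card_R]
    exact fib_ge i
  have h2 : ∑ i : Fin 21, Nat.card {g : Q // cl g = i} = ∑ i : Fin 21, sz i := by
    rw [sz_sum, ← card_Q_eq, ← Nat.card_congr (Equiv.sigmaFiberEquiv cl), Nat.card_sigma]
  exact ((Finset.sum_eq_sum_iff_of_le h1).1 h2.symm i (Finset.mem_univ i)).symm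

theorem cl_aut (σ : MulAut Q) (g : Q) : cl (σ g) = cl g := by
  obtain ⟨p, hp, h⟩ := Cfsg.Agent.HN.AutHS.exists_perm σ
  exact cl_eq ((inv_conj hp (h g)).trans (cl_spec g))

/-- **the labelling** -/
noncomputable def T : ATab Q 21 where
  cl := cl
  sz := sz
  hsz := card_fib
  hinv := cl_aut

/-! ### powers -/

theorem inv1_word {L : List ℕ} {v k : ℕ} {g : Perm (Fin 100)} (hg : Acts g L)
    (h : cntB (fun i => Nat.beq (col 100 adjA i (ev L i)) k) 100 v = true) : inv1 adjA g k = v := by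
  rw [← card_fin_of_cntB _ 100 v h]
  unfold inv1
  congr 1
  apply Finset.filter_congr
  intro i _
  rw [hg i]
  exact ⟨fun h => by rw [h]; exact Nat.beq_refl _, Nat.eq_of_beq_eq_true⟩

/-- the check for a power -/
def pchk (L M : List ℕ) (I : List ℕ) : Bool :=
  match I with
  | [v2, v1, w2, w1] => cntB (fun i => Nat.beq (col 100 adjA i (ev L i)) 2) 100 v2 &&
      (cntB (fun i => Nat.beq (col 100 adjA i (ev L i)) 1) 100 v1 &&
      (cntB (fun i => Nat.beq (col 100 adjA i (ev M i)) 2) 100 w2 &&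
        cntB (fun i => Nat.beq (col 100 adjA i (ev M i)) 1) 100 w1))
  | _ => false

theorem inv_word {L M I : List ℕ} {g : Perm (Fin 100)} (hg : Acts g L) (hg2 : Acts (g * g) M)
    (h : pchk L M I = true) : inv4v adjA g = I := by
  unfold pchk at h
  split at h
  · simp only [Bool.and_eq_true] at h
    obtain ⟨h1, h2, h3, h4⟩ := h
    unfold inv4v
    rw [inv1_word hg h1, inv1_word hg h2, inv1_word hg2 h3, inv1_word hg2 h4]
  · exact absurd h (by simp)

theorem p2chk : ∀ i : Fin 21, pchk (powL [(D i).X] 2) (powL [(D i).X] 4) (Iv (pw2 i)) = true := by decide +kernel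

theorem p3chk : ∀ i : Fin 21, pchk (powL [(D i).X] 3) (powL [(D i).X] 6) (Iv (pw3 i)) = true := by decide +kernel

theorem cl_pow {a : ℕ} {pw : Fin 21 → Fin 21}
    (hc : ∀ i : Fin 21, pchk (powL [(D i).X] a) (powL [(D i).X] (a + a)) (Iv (pw i)) = true) (g : Q) :
    cl (g ^ a) = pw (cl g) := by
  obtain ⟨i, x, -, hx, c, hc', he⟩ := cov_Q g g.2
  have h1 : cl g = i := cl_eq ((inv_conj (range_le hc') he).trans (inv_of i hx))
  rw [h1]
  apply cl_eq
  have h2 : ((g ^ a : Q) : Perm (Fin 100)) = c * x ^ a * c⁻¹ := by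
    rw [Subgroup.coe_pow, he, conj_pow]
  refine (inv_conj (range_le hc') h2).trans (inv_word (acts_pow hx a) ?_ (hc i))
  rw [← pow_add]
  exact acts_pow hx (a + a)

theorem cl_sq (g : Q) : T.cl (g ^ 2) = pw2 (T.cl g) := cl_pow p2chk g

theorem cl_cube (g : Q) : T.cl (g ^ 3) = pw3 (T.cl g) := cl_pow p3chk g

theorem cl_one : T.cl 1 = 0 := by
  show cl 1 = 0
  apply cl_eq
  have h1 : Acts (1 : Perm (Fin 100)) [d0.X] := by
    intro i
    revert i
    decide +kernel
  exact inv_of 0 h1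

/-! ### the characters of degree 22 and 77 -/

/-- adjacency -/
def adj (x y : Fin 100) : Prop := ad x y = 1

instance : DecidableRel adj := fun x y => inferInstanceAs (Decidable (ad x y = 1))

theorem adj_inv (g : Q) (x y : Fin 100) : adj (g • x) (g • y) ↔ adj x y := by
  unfold adj
  rw [show g • x = (g : Perm (Fin 100)) x from rfl, show g • y = (g : Perm (Fin 100)) y from rfl, ad_map_Q g.2]

theorem adj_symm (x y : Fin 100) (h : adj x y) : adj y x := by
  unfold adj at h ⊢
  rwa [ad_symm]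

theorem adj_irr (x : Fin 100) : ¬ adj x x := by
  unfold adj
  rw [ad_self]
  norm_num

theorem sum_ad (p : Fin 100 → Prop) [DecidablePred p] (f : Fin 100 → ℕ) (h : ∀ x, f x = if p x then 1 else 0) :
    (Finset.univ.filter p).card = ∑ x, f x := by
  rw [Finset.card_filter]
  exact Finset.sum_congr rfl fun x _ => (h x).symm

theorem adj_deg (x : Fin 100) : (Finset.univ.filter fun y => adj x y).card = 22 := by
  rw [← deg x]
  refine sum_ad _ _ fun y => ?_
  unfold adj
  rcases ad_zero_or_one x y with h | h <;> simp [h]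

theorem adj_com (x y : Fin 100) : (Finset.univ.filter fun z => adj x z ∧ adj z y).card = ∑ w, ad x w * ad y w := by
  refine sum_ad _ _ fun z => ?_
  have e : (adj x z ∧ adj z y) ↔ (ad x z = 1 ∧ ad y z = 1) := by
    unfold adj
    rw [ad_symm z y]
  rw [if_congr e rfl rfl]
  rcases ad_zero_or_one x z with h | h <;> rcases ad_zero_or_one y z with h' | h' <;> simp [h, h']

theorem adj_lam (x y : Fin 100) (h : adj x y) : (Finset.univ.filter fun z => adj x z ∧ adj z y).card = 0 := by
  rw [adj_com]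
  have h1 := srg x y
  have h2 : ad x y = 1 := h
  have h3 : y ≠ x := by
    rintro rfl
    exact adj_irr _ h
  rw [if_neg h3, h2] at h1
  omega

theorem adj_mu (x y : Fin 100) (hne : x ≠ y) (h : ¬ adj x y) :
    (Finset.univ.filter fun z => adj x z ∧ adj z y).card = 6 := by
  rw [adj_com]
  have h1 := srg x y
  have h2 : ad x y = 0 := (ad_zero_or_one x y).resolve_right h
  rw [if_neg hne.symm, h2] at h1
  omega

theorem fix_eq (g : Q) : Nat.card (MulAction.fixedBy (Fin 100) g) = (Iv (T.cl g)).getD 0 0 := by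
  have h1 := cl_spec g
  have h2 : (inv4v adjA (g : Perm (Fin 100))).getD 0 0 = (Iv (T.cl g)).getD 0 0 := by rw [h1]; rfl
  rw [← h2]
  show _ = inv1 adjA (g : Perm (Fin 100)) 2
  rw [Nat.card_eq_fintype_card]
  have h3 : Fintype.card (MulAction.fixedBy (Fin 100) g) =
      (Finset.univ.filter fun i : Fin 100 => g • i = i).card := by
    rw [← Set.toFinset_card]
    congr 1
    ext i
    simp
  rw [h3]
  unfold inv1
  congr 1
  apply Finset.filter_congr
  intro i _
  rw [show g • i = (g : Perm (Fin 100)) i from rfl]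
  unfold col
  constructor
  · intro h
    rw [h, Nat.beq_refl]
    rfl
  · intro h
    by_contra hne
    have h4 : Nat.beq (i : ℕ) ((g : Perm (Fin 100)) i : ℕ) = false := by
      rw [← Bool.not_eq_true]
      intro h5
      exact hne (Fin.ext (Nat.eq_of_beq_eq_true h5)).symm
    rw [h4] at h
    rcases ad_zero_or_one i ((g : Perm (Fin 100)) i) with h5 | h5
    · have : ad i ((g : Perm (Fin 100)) i) = 2 := h
      omega
    · have : ad i ((g : Perm (Fin 100)) i) = 2 := h
      omega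

theorem adj_eq (g : Q) : (Finset.univ.filter fun x : Fin 100 => adj x (g • x)).card = (Iv (T.cl g)).getD 1 0 := by
  have h1 := cl_spec g
  have h2 : (inv4v adjA (g : Perm (Fin 100))).getD 1 0 = (Iv (T.cl g)).getD 1 0 := by rw [h1]; rfl
  rw [← h2]
  show _ = inv1 adjA (g : Perm (Fin 100)) 1
  unfold inv1
  congr 1
  apply Finset.filter_congr
  intro i _
  rw [show g • i = (g : Perm (Fin 100)) i from rfl]
  unfold col adj
  by_cases hi : (g : Perm (Fin 100)) i = i
  · rw [hi, Nat.beq_refl, ad_self]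
    constructor
    · intro h; omega
    · intro h
      have : (2 : ℕ) = 1 := h
      omega
  · have h4 : Nat.beq (i : ℕ) ((g : Perm (Fin 100)) i : ℕ) = false := by
      rw [← Bool.not_eq_true]
      intro h5
      exact hi (Fin.ext (Nat.eq_of_beq_eq_true h5)).symm
    rw [h4]
    rfl

theorem gv_srg {θ τ : ℤ} (hsum : θ + τ = (0 : ℕ) - (6 : ℕ)) (hprod : θ * τ = (6 : ℕ) - (22 : ℕ)) (hne : θ ≠ τ)
    {v : Fin 21 → ℤ} (h : ∀ i, (θ - τ) * v i = 22 + θ * (((Iv i).getD 0 0 : ℕ) - 1) - ((Iv i).getD 1 0 : ℕ)) : GV T v := by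
  have h1 := isCharacter_srg (G := Q) (X := Fin 100) adj adj_inv adj_symm adj_irr adj_deg adj_lam adj_mu hsum hprod hne
  have h2 : fv T v = fun g => (((22 : ℕ) : ℂ) + θ * ((Nat.card (MulAction.fixedBy (Fin 100) g) : ℂ) - 1) -
      ((Finset.univ.filter fun x => adj x (g • x)).card : ℂ)) / (θ - τ) := by
    funext g
    rw [fix_eq, adj_eq]
    have hne' : (θ : ℂ) - τ ≠ 0 := by
      rw [sub_ne_zero]
      exact_mod_cast hne
    rw [eq_div_iff hne']
    have h3 := congrArg (fun z : ℤ => (z : ℂ)) (h (T.cl g))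
    push_cast at h3 ⊢
    rw [← h3, mul_comm]
    rfl
  unfold GV
  rw [h2]
  exact Cfsg.Agent.Characters.Brauer.isGeneralizedCharacter_of_isCharacter h1

end Cfsg.Agent.H344.S8.HS
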